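/-
The fixed group of a twisted endomorphism and a field automorphism commuting with it: exact levels
of a grading, as coordinates on the layers of `U`.
-/
import Cfsg.Agent.Lib.Chev.SubfieldMax.Rational
import Cfsg.Agent.Lib.Chev.Twist.Fix

set_option autoImplicit false
set_option linter.dupNamespace false
set_option linter.unusedSectionVars false
set_option linter.unusedSimpArgs false

namespace CfsgLib.Chev

open Cfsg.Lie Matrix

/-- The chain coefficient from the tables: the entry of `ad e_s`. -/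
def eN (D : ChevalleyDatum) (s a b : ℕ) : ℤ :=
  if b = s ∨ b = D.neg s then 0
  else match D.chainEntry s b with
    | hd :: _ => if hd.1 = a then hd.2 else 0
    | [] => 0

/-- A coefficient of the bracket of two root vectors, read off the tables. -/
def brN (D : ChevalleyDatum) (r s u i : ℕ) : ℤ :=
  (D.coroot.getD r #[]).getD i 0 * eN D s (D.neg r) (D.neg u) -
    (D.coroot.getD s #[]).getD i 0 * eN D r (D.neg s) (D.neg u)

namespace Chev

variable {D : ChevalleyDatum} {Φ : Chev D} {K : Type*} [Field K]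

variable (Φ) in
/-- Each coroot has a coefficient which is a unit. -/
def UnitC : Prop := ∀ r, ∃ i, Φ.C r i = 1 ∨ Φ.C r i = -1

variable (Φ) in
/-- The positive roots of level at least `c`. -/
def GE (l : Fin D.rank → ℤ) (c : ℤ) (r : Fin D.nroots) : Prop :=
  Φ.toTables.Pos r ∧ c ≤ Φ.toSys.lev l r

variable (Φ) in
/-- The positive roots of level `c`. -/
def EQ (l : Fin D.rank → ℤ) (c : ℤ) (r : Fin D.nroots) : Prop :=
  Φ.toTables.Pos r ∧ Φ.toSys.lev l r = c

variable (Φ) in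
/-- The weight function of a grading. -/
def wl (l : Fin D.rank → ℤ) (x : D.Idx) : ℤ := 1 * Φ.toSys.levIdx l x

variable (Φ) in
open Classical in
/-- A coordinate: an entry at the level of the root. -/
noncomputable def cf (s : Fin D.nroots) (g : GL D.Idx K) : K :=
  if h : ∃ i, Φ.C s i = 1 ∨ Φ.C s i = -1 then
    ((g : Matrix D.Idx D.Idx K) - 1) (Sum.inl h.choose) (Sum.inr s.rev) * (Φ.C s h.choose : K)
  else 0

theorem US_le_raise_lev {l : Fin D.rank → ℤ} {c : ℤ} (hc : 0 ≤ c) :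
    Φ.US K (Φ.GE l c) ≤ raiseSubgroup (Φ.wl l) c hc := by
  rw [US, Subgroup.closure_le]
  rintro g ⟨r, t, hr, rfl⟩
  have h : c ≤ 1 * Φ.toSys.lev l r := by rw [one_mul]; exact hr.2
  exact ⟨Φ.toSys.raises_X_lev l 1 c r hc h t, Φ.toSys.raises_X_lev l 1 c r hc h (-t)⟩

theorem exact_mul {w : D.Idx → ℤ} {c : ℤ} (hc : 1 ≤ c) {g g' : GL D.Idx K}
    (hg : g ∈ raiseSubgroup w c (by omega)) (hg' : g' ∈ raiseSubgroup w c (by omega)) {a b : D.Idx}
    (hab : w a = w b + c) :
    ((↑(g * g') : Matrix D.Idx D.Idx K) - 1) a b =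
      ((g : Matrix D.Idx D.Idx K) - 1) a b + ((g' : Matrix D.Idx D.Idx K) - 1) a b := by
  rw [Units.val_mul, mul_sub_one, Matrix.add_apply, Matrix.add_apply]
  have h0 : (((g : Matrix D.Idx D.Idx K) - 1) * ((g' : Matrix D.Idx D.Idx K) - 1)) a b = 0 := by
    by_contra hne
    have := (hg.1.mul w hg'.1) a b hne
    omega
  rw [h0, zero_add]

theorem exact_inv {w : D.Idx → ℤ} {c : ℤ} (hc : 1 ≤ c) {g : GL D.Idx K}
    (hg : g ∈ raiseSubgroup w c (by omega)) {a b : D.Idx} (hab : w a = w b + c) :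
    ((↑g⁻¹ : Matrix D.Idx D.Idx K) - 1) a b = -(((g : Matrix D.Idx D.Idx K) - 1) a b) := by
  have h := exact_mul hc hg (inv_mem hg) hab
  rw [mul_inv_cancel, Units.val_one, sub_self, Matrix.zero_apply] at h
  exact eq_neg_of_add_eq_zero_right h.symm

theorem exact_eq_zero {w : D.Idx → ℤ} {c d : ℤ} (hd : 0 ≤ d) (hcd : c < d) {g : GL D.Idx K}
    (hg : g ∈ raiseSubgroup w d hd) {a b : D.Idx} (hab : w a = w b + c) :
    ((g : Matrix D.Idx D.Idx K) - 1) a b = 0 := by
  by_contra hne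
  have := hg.1 a b hne
  omega

theorem exact_X {l : Fin D.rank → ℤ} {c : ℤ} (hc : 1 ≤ c) {r : Fin D.nroots}
    (hr : c ≤ Φ.toSys.lev l r) (t : K) {a b : D.Idx} (hab : Φ.wl l a = Φ.wl l b + c) :
    ((Φ.toAlg.xg r t : GL D.Idx K) - 1 : Matrix D.Idx D.Idx K) a b =
      if Φ.toSys.lev l r = c then t * Φ.toSys.E K 1 r a b else 0 := by
  have hz : ∀ k : ℕ, 1 ≤ k → (k ≠ 1 ∨ Φ.toSys.lev l r ≠ c) → Φ.toSys.E K k r a b = 0 := by
    intro k hk hor
    by_contra hne
    have h1 := Φ.toSys.lev_E l k r a b hne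
    simp only [wl, one_mul] at hab
    have hk' : (1 : ℤ) ≤ k := by exact_mod_cast hk
    rcases hor with h | h
    · have : (2 : ℤ) ≤ k := by exact_mod_cast (show 2 ≤ k by omega)
      nlinarith
    · nlinarith [lt_of_le_of_ne hr (Ne.symm h)]
  rw [Φ.toAlg.xg_val]
  simp only [Sys.X, Finset.sum_range_succ, Finset.sum_range_zero, zero_add, pow_zero, one_smul,
    pow_one, Φ.toSys.E_zero, Matrix.sub_apply, Matrix.add_apply, Matrix.smul_apply, smul_eq_mul,
    hz 2 (by norm_num) (Or.inl (by norm_num)), hz 3 (by norm_num) (Or.inl (by norm_num)), mul_zero,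
    add_zero, add_sub_cancel_left]
  split_ifs with h
  · rfl
  · rw [hz 1 le_rfl (Or.inr h), mul_zero]

theorem E1_coord (r s : Fin D.nroots) (i : Fin D.rank) :
    Φ.toSys.E K 1 r (Sum.inl i) (Sum.inr s.rev) = if r = s then (Φ.C r i : K) else 0 := by
  by_cases h : r = s
  · subst h
    simp [Sys.E, Φ.toSys.rev_ne r]
  · rw [if_neg h]
    have h' : s.rev ≠ r.rev := fun e => h (Fin.rev_injective e).symm
    by_cases h2 : s.rev = r <;> simp [Sys.E, h2, h']

theorem wl_coord {l : Fin D.rank → ℤ} {s : Fin D.nroots} (i : Fin D.rank) :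
    Φ.wl l (Sum.inl i) = Φ.wl l (Sum.inr s.rev) + Φ.toSys.lev l s := by
  simp [wl, Sys.levIdx, Φ.toSys.lev_neg]

theorem cf_mul {l : Fin D.rank → ℤ} {c : ℤ} (hc : 1 ≤ c) {s : Fin D.nroots}
    (hs : Φ.toSys.lev l s = c) {g g' : GL D.Idx K}
    (hg : g ∈ Φ.US K (Φ.GE l c)) (hg' : g' ∈ Φ.US K (Φ.GE l c)) :
    Φ.cf s (g * g') = Φ.cf s g + Φ.cf s g' := by
  unfold cf
  split_ifs with h
  · rw [exact_mul hc (US_le_raise_lev _ hg) (US_le_raise_lev _ hg') (hs ▸ wl_coord _), add_mul]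
  · rw [add_zero]

theorem cf_one (s : Fin D.nroots) : Φ.cf s (1 : GL D.Idx K) = 0 := by
  unfold cf
  split_ifs <;> simp

theorem cf_inv {l : Fin D.rank → ℤ} {c : ℤ} (hc : 1 ≤ c) {s : Fin D.nroots}
    (hs : Φ.toSys.lev l s = c) {g : GL D.Idx K} (hg : g ∈ Φ.US K (Φ.GE l c)) :
    Φ.cf s g⁻¹ = -Φ.cf s g := by
  have h := cf_mul hc hs hg (inv_mem hg)
  rw [mul_inv_cancel, cf_one] at h
  exact eq_neg_of_add_eq_zero_right h.symm

theorem cf_eq_zero {l : Fin D.rank → ℤ} {c d : ℤ} (hd : 0 ≤ d) (hcd : c < d) {s : Fin D.nroots}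
    (hs : Φ.toSys.lev l s = c) {g : GL D.Idx K} (hg : g ∈ Φ.US K (Φ.GE l d)) : Φ.cf s g = 0 := by
  unfold cf
  split_ifs with h
  · rw [exact_eq_zero hd hcd (US_le_raise_lev _ hg) (hs ▸ wl_coord _), zero_mul]
  · rfl

theorem cf_xg (hC : Φ.UnitC) {l : Fin D.rank → ℤ} {c : ℤ} (hc : 1 ≤ c) {r s : Fin D.nroots}
    (hr : c ≤ Φ.toSys.lev l r) (hs : Φ.toSys.lev l s = c) (t : K) :
    Φ.cf s (Φ.toAlg.xg r t) = if r = s then t else 0 := by
  rw [cf, dif_pos (hC s), exact_X hc hr t (hs ▸ wl_coord _), E1_coord]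
  by_cases hrs : r = s
  · subst hrs
    rw [if_pos hs, if_pos rfl, if_pos rfl]
    rcases (hC r).choose_spec with e | e <;> simp [e]
  · rw [if_neg hrs, if_neg hrs]
    split_ifs <;> simp

theorem cf_list {c : ℤ} (hc : 1 ≤ c) {l : Fin D.rank → ℤ} {s : Fin D.nroots}
    (hs : Φ.toSys.lev l s = c) : ∀ {L : List (GL D.Idx K)}, (∀ g ∈ L, g ∈ Φ.US K (Φ.GE l c)) →
    Φ.cf s L.prod = (L.map (Φ.cf s)).sum
  | [], _ => cf_one s
  | a :: L, h => by
    have hL : ∀ g ∈ L, g ∈ Φ.US K (Φ.GE l c) := fun g hg => h g (List.mem_cons_of_mem _ hg)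
    rw [List.prod_cons, List.map_cons, List.sum_cons,
      cf_mul hc hs (h a List.mem_cons_self) (list_prod_mem hL), cf_list hc hs hL]

theorem sum_pick {F : Type*} [AddCommMonoid F] {α : Type*} [DecidableEq α] {L : List α}
    (hL : L.Nodup) (f : α → F) (s : α) :
    (L.map fun r => if r = s then f r else 0).sum = if s ∈ L then f s else 0 := by
  induction L with
  | nil => simp
  | cons a L ih =>
    rw [List.nodup_cons] at hL
    rw [List.map_cons, List.sum_cons, ih hL.2]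
    by_cases h : a = s
    · subst h; simp [hL.1]
    · simp [h, Ne.symm h]

theorem cf_prodL (hC : Φ.UnitC) {l : Fin D.rank → ℤ} {c : ℤ} (hc : 1 ≤ c) {s : Fin D.nroots}
    (hs : Φ.toSys.lev l s = c) {L : List (Fin D.nroots)} (hL : L.Nodup)
    (hLc : ∀ r ∈ L, Φ.GE l c r) (t : Fin D.nroots → K) :
    Φ.cf s (Φ.prodL L t) = if s ∈ L then t s else 0 := by
  rw [prodL, cf_list hc hs (fun g hg => by
    obtain ⟨r, hr, rfl⟩ := List.mem_map.1 hg
    exact Φ.xg_mem_US (hLc r hr) _), List.map_map, ← sum_pick hL t s]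
  exact congrArg List.sum (List.map_congr_left fun r hr => cf_xg hC hc (hLc r hr).2 hs (t r))

open Classical in
/-- The exact layer of an element is given by its coordinates. -/
theorem lead (hC : Φ.UnitC) {l : Fin D.rank → ℤ} {c : ℤ} (hc : 1 ≤ c) {g : GL D.Idx K}
    (hg : g ∈ Φ.US K (Φ.GE l c)) {a b : D.Idx} (hab : Φ.wl l a = Φ.wl l b + c) :
    ((g : Matrix D.Idx D.Idx K) - 1) a b =
      ∑ r ∈ Finset.univ.filter (Φ.EQ l c), Φ.cf r g * Φ.toSys.E K 1 r a b := by
  induction hg using Subgroup.closure_induction with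
  | mem x hx =>
    obtain ⟨r, t, hr, rfl⟩ := hx
    rw [exact_X hc hr.2 t hab, Finset.sum_congr rfl (fun s hs => by
      rw [cf_xg hC hc hr.2 (Finset.mem_filter.1 hs).2.2 t, ite_mul, zero_mul]), Finset.sum_ite_eq]
    by_cases h : Φ.toSys.lev l r = c
    · rw [if_pos h, if_pos (Finset.mem_filter.2 ⟨Finset.mem_univ _, hr.1, h⟩)]
    · rw [if_neg h, if_neg (fun e => h (Finset.mem_filter.1 e).2.2)]
  | one => simp [cf_one]
  | mul x y hx hy ihx ihy =>
    rw [exact_mul hc (US_le_raise_lev _ hx) (US_le_raise_lev _ hy) hab, ihx, ihy,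
      ← Finset.sum_add_distrib]
    refine Finset.sum_congr rfl fun r hr => ?_
    rw [cf_mul hc (Finset.mem_filter.1 hr).2.2 hx hy, add_mul]
  | inv x hx ihx =>
    rw [exact_inv hc (US_le_raise_lev _ hx) hab, ihx, ← Finset.sum_neg_distrib]
    refine Finset.sum_congr rfl fun r hr => ?_
    rw [cf_inv hc (Finset.mem_filter.1 hr).2.2 hx, neg_mul]

theorem cf_fr (σ : K ≃+* K) (s : Fin D.nroots) (g : GL D.Idx K) :
    Φ.cf s (fr σ g) = σ (Φ.cf s g) := by
  unfold cf
  split_ifs with h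
  · rw [fr_sub_one, map_mul, map_intCast]
  · rw [map_zero]

theorem closed_GE {l : Fin D.rank → ℤ} {c : ℤ} (hc : 0 ≤ c) : Φ.Closed (Φ.GE l c) := by
  intro r s hr hs hN
  refine ⟨Φ.closed_pos r s hr.1 hs.1 hN, ?_⟩
  have := hr.2
  have := hs.2
  simp only [Sys.lev] at *
  simp only [Φ.V_add r s hN, add_mul, Finset.sum_add_distrib]
  omega

end Chev

end CfsgLib.Chev
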